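/-
Cached tables for the Chevalley datum of type B2 (checked against the datum in Chev/CheckB2).
-/
import Cfsg.Agent.Lib.Lie.Chev.Basic
import Cfsg.Prelude.Def_ChevB2

set_option autoImplicit false

namespace CfsgLib.Lie.Chev

/-- cached tables for B2 -/
def auxB2 : Aux where
  wtab := [46731701698971039892678956772687879, 72693027543782482672257827036528640]
  ctab := [9403939885837942654, 9331881196566642559]
  htab := [9331882291800014719, 9332162671543352959]
  reps := [6, 7]
  bases := [(6, 3), (6, 5), (6, 7), (7, 2), (7, 4), (7, 6)]

end CfsgLib.Lie.Chev
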