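/-
Kernel evaluation of the table checks.
-/
import Cfsg.Agent.Lib.Lie.Chev.Cert
import Cfsg.Agent.Lib.Lie.Chev.Data.B2

set_option autoImplicit false

namespace CfsgLib.Lie.Chev

theorem okB2Shape : chkShape Cfsg.Lie.chevB2 = true := by decide +kernel
theorem okB2W : chkW Cfsg.Lie.chevB2 auxB2 = true := by decide +kernel
theorem okB2Coef : chkCoef Cfsg.Lie.chevB2 auxB2 = true := by decide +kernel
theorem okB2Lin : chkLin Cfsg.Lie.chevB2 auxB2 = true := by decide +kernel
theorem okB2Rows : chkRows Cfsg.Lie.chevB2 auxB2 = true := by decide +kernel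
theorem okB2N : chkN Cfsg.Lie.chevB2 auxB2 = true := by decide +kernel
theorem okB2Add : chkAdd Cfsg.Lie.chevB2 auxB2 = true := by decide +kernel
theorem okB2Comm : chkComm Cfsg.Lie.chevB2 auxB2 = true := by decide +kernel
theorem okB2Cover : chkCover Cfsg.Lie.chevB2 auxB2 = true := by decide +kernel
theorem okB2Comm2 : chkComm2 Cfsg.Lie.chevB2 auxB2 = true := by decide +kernel
theorem okB2Equiv0 : chkEquivAt Cfsg.Lie.chevB2 auxB2 0 = true := by decide +kernel
theorem okB2Equiv1 : chkEquivAt Cfsg.Lie.chevB2 auxB2 1 = true := by decide +kernel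

/-- the tables of type B2 are certified -/
theorem certB2 : Cert Cfsg.Lie.chevB2 auxB2 where
  shape := okB2Shape
  refl := okB2W
  coords := okB2Coef
  lin := okB2Lin
  rows := okB2Rows
  nmat := okB2N
  addRep := okB2Add
  commBase := okB2Comm
  cover := okB2Cover
  comm2 := okB2Comm2
  equivRows := fun i hi => by
    have h : i < 2 := hi
    match i, h with
    | 0, _ => exact okB2Equiv0
    | 1, _ => exact okB2Equiv1
    | n + 2, h => omega

end CfsgLib.Lie.Chev
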