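/-
Cached tables for the Chevalley datum of type D4 (checked against the datum in Chev/CheckD4).
-/
import Cfsg.Agent.Lib.Lie.Chev.Basic
import Cfsg.Prelude.Def_ChevD4

set_option autoImplicit false

namespace CfsgLib.Lie.Chev

/-- cached tables for D4 -/
def auxD4 : Aux where
  wtab := [27656749375035988306231386216145290349633219973150256373991336452694115930880135206193127644732467094547103219712, 27055632563179316347349069951705492984574158949859352417538448224640118006135863068739102181079021622781242507267, 27656813593977154257211312045663987137965116741969905563281390247089989555537210229245689880524857730642183913472, 27656831942665991729713603992252412417141286247318967045212574168505188297263994003865663777759650699852101517312]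
  ctab := [3175474995548556063663026027698689514280335605513819488127, 3199994924202388072105463768483781481546883665715433275262, 3175474994081323222268669058311223506781034538268165635967, 3175474621398405702549471757242947899298611222360933564287]
  htab := [3175474995548556063663026027698689514280335605513819488127, 3199994924202388072105463768483781481546883665715433275262, 3175474994081323222268669058311223506781034538268165635967, 3175474621398405702549471757242947899298611222360933564287]
  reps := [23]
  bases := [(23, 9), (23, 12), (23, 13), (23, 18), (23, 22)]

end CfsgLib.Lie.Chev
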