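/-
Kernel evaluation of the table checks.
-/
import Cfsg.Agent.Lib.Lie.Chev.Cert
import Cfsg.Agent.Lib.Lie.Chev.Data.D4

set_option autoImplicit false

namespace CfsgLib.Lie.Chev

theorem okD4Shape : chkShape Cfsg.Lie.chevD4 = true := by decide +kernel
theorem okD4W : chkW Cfsg.Lie.chevD4 auxD4 = true := by decide +kernel
theorem okD4Coef : chkCoef Cfsg.Lie.chevD4 auxD4 = true := by decide +kernel
theorem okD4Lin : chkLin Cfsg.Lie.chevD4 auxD4 = true := by decide +kernel
theorem okD4Rows : chkRows Cfsg.Lie.chevD4 auxD4 = true := by decide +kernel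
theorem okD4N : chkN Cfsg.Lie.chevD4 auxD4 = true := by decide +kernel
theorem okD4Add : chkAdd Cfsg.Lie.chevD4 auxD4 = true := by decide +kernel
theorem okD4Comm : chkComm Cfsg.Lie.chevD4 auxD4 = true := by decide +kernel
theorem okD4Cover : chkCover Cfsg.Lie.chevD4 auxD4 = true := by decide +kernel
theorem okD4Comm2 : chkComm2 Cfsg.Lie.chevD4 auxD4 = true := by decide +kernel
theorem okD4Equiv0 : chkEquivAt Cfsg.Lie.chevD4 auxD4 0 = true := by decide +kernel
theorem okD4Equiv1 : chkEquivAt Cfsg.Lie.chevD4 auxD4 1 = true := by decide +kernel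
theorem okD4Equiv2 : chkEquivAt Cfsg.Lie.chevD4 auxD4 2 = true := by decide +kernel
theorem okD4Equiv3 : chkEquivAt Cfsg.Lie.chevD4 auxD4 3 = true := by decide +kernel

/-- the tables of type D4 are certified -/
theorem certD4 : Cert Cfsg.Lie.chevD4 auxD4 where
  shape := okD4Shape
  refl := okD4W
  coords := okD4Coef
  lin := okD4Lin
  rows := okD4Rows
  nmat := okD4N
  addRep := okD4Add
  commBase := okD4Comm
  cover := okD4Cover
  comm2 := okD4Comm2
  equivRows := fun i hi => by
    have h : i < 4 := hi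
    match i, h with
    | 0, _ => exact okD4Equiv0
    | 1, _ => exact okD4Equiv1
    | 2, _ => exact okD4Equiv2
    | 3, _ => exact okD4Equiv3
    | n + 4, h => omega

end CfsgLib.Lie.Chev
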