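/-
Kernel evaluation of the table checks.
-/
import Cfsg.Agent.Lib.Lie.Chev.Cert
import Cfsg.Agent.Lib.Lie.Chev.Data.E6

set_option autoImplicit false

namespace CfsgLib.Lie.Chev

theorem okE6Shape : chkShape Cfsg.Lie.chevE6 = true := by decide +kernel
theorem okE6W : chkW Cfsg.Lie.chevE6 auxE6 = true := by decide +kernel
theorem okE6Coef : chkCoef Cfsg.Lie.chevE6 auxE6 = true := by decide +kernel
theorem okE6Lin : chkLin Cfsg.Lie.chevE6 auxE6 = true := by decide +kernel
theorem okE6Rows : chkRows Cfsg.Lie.chevE6 auxE6 = true := by decide +kernel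
theorem okE6N : chkN Cfsg.Lie.chevE6 auxE6 = true := by decide +kernel
theorem okE6Add : chkAdd Cfsg.Lie.chevE6 auxE6 = true := by decide +kernel
theorem okE6Comm : chkComm Cfsg.Lie.chevE6 auxE6 = true := by decide +kernel
theorem okE6Cover : chkCover Cfsg.Lie.chevE6 auxE6 = true := by decide +kernel
theorem okE6Comm2 : chkComm2 Cfsg.Lie.chevE6 auxE6 = true := by decide +kernel
theorem okE6Equiv0 : chkEquivAt Cfsg.Lie.chevE6 auxE6 0 = true := by decide +kernel
theorem okE6Equiv1 : chkEquivAt Cfsg.Lie.chevE6 auxE6 1 = true := by decide +kernel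
theorem okE6Equiv2 : chkEquivAt Cfsg.Lie.chevE6 auxE6 2 = true := by decide +kernel
theorem okE6Equiv3 : chkEquivAt Cfsg.Lie.chevE6 auxE6 3 = true := by decide +kernel
theorem okE6Equiv4 : chkEquivAt Cfsg.Lie.chevE6 auxE6 4 = true := by decide +kernel
theorem okE6Equiv5 : chkEquivAt Cfsg.Lie.chevE6 auxE6 5 = true := by decide +kernel

/-- the tables of type E6 are certified -/
theorem certE6 : Cert Cfsg.Lie.chevE6 auxE6 where
  shape := okE6Shape
  refl := okE6W
  coords := okE6Coef
  lin := okE6Lin
  rows := okE6Rows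
  nmat := okE6N
  addRep := okE6Add
  commBase := okE6Comm
  cover := okE6Cover
  comm2 := okE6Comm2
  equivRows := fun i hi => by
    have h : i < 6 := hi
    match i, h with
    | 0, _ => exact okE6Equiv0
    | 1, _ => exact okE6Equiv1
    | 2, _ => exact okE6Equiv2
    | 3, _ => exact okE6Equiv3
    | 4, _ => exact okE6Equiv4
    | 5, _ => exact okE6Equiv5
    | n + 6, h => omega

end CfsgLib.Lie.Chev
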