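/-
Kernel evaluation of the table checks.
-/
import Cfsg.Agent.Lib.Lie.Chev.Checks
import Cfsg.Agent.Lib.Lie.Chev.Data.E7

set_option autoImplicit false

namespace CfsgLib.Lie.Chev

theorem okE7Shape : chkShape Cfsg.Lie.chevE7 = true := by decide +kernel
theorem okE7W : chkW Cfsg.Lie.chevE7 auxE7 = true := by decide +kernel
theorem okE7Coef : chkCoef Cfsg.Lie.chevE7 auxE7 = true := by decide +kernel
theorem okE7Lin : chkLin Cfsg.Lie.chevE7 auxE7 = true := by decide +kernel
theorem okE7Rows : chkRows Cfsg.Lie.chevE7 auxE7 = true := by decide +kernel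

end CfsgLib.Lie.Chev
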