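/-
Kernel evaluation of the table checks.
-/
import Cfsg.Agent.Lib.Lie.Chev.Checks
import Cfsg.Agent.Lib.Lie.Chev.Data.E7

set_option autoImplicit false

namespace CfsgLib.Lie.Chev

theorem okE7Equiv0 : chkEquivAt Cfsg.Lie.chevE7 auxE7 0 = true := by decide +kernel
theorem okE7Equiv1 : chkEquivAt Cfsg.Lie.chevE7 auxE7 1 = true := by decide +kernel
theorem okE7Equiv2 : chkEquivAt Cfsg.Lie.chevE7 auxE7 2 = true := by decide +kernel
theorem okE7Equiv3 : chkEquivAt Cfsg.Lie.chevE7 auxE7 3 = true := by decide +kernel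
theorem okE7Equiv4 : chkEquivAt Cfsg.Lie.chevE7 auxE7 4 = true := by decide +kernel
theorem okE7Equiv5 : chkEquivAt Cfsg.Lie.chevE7 auxE7 5 = true := by decide +kernel
theorem okE7Equiv6 : chkEquivAt Cfsg.Lie.chevE7 auxE7 6 = true := by decide +kernel

end CfsgLib.Lie.Chev
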