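/-
Kernel evaluation of the table checks.
-/
import Cfsg.Agent.Lib.Lie.Chev.Cert
import Cfsg.Agent.Lib.Lie.Chev.Data.E7A
import Cfsg.Agent.Lib.Lie.Chev.Data.E7B
import Cfsg.Agent.Lib.Lie.Chev.Data.E7C

set_option autoImplicit false

namespace CfsgLib.Lie.Chev

/-- the tables of type E7 are certified -/
theorem certE7 : Cert Cfsg.Lie.chevE7 auxE7 where
  shape := okE7Shape
  refl := okE7W
  coords := okE7Coef
  lin := okE7Lin
  rows := okE7Rows
  nmat := okE7N
  addRep := okE7Add
  commBase := okE7Comm
  cover := okE7Cover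
  comm2 := okE7Comm2
  equivRows := fun i hi => by
    have h : i < 7 := hi
    match i, h with
    | 0, _ => exact okE7Equiv0
    | 1, _ => exact okE7Equiv1
    | 2, _ => exact okE7Equiv2
    | 3, _ => exact okE7Equiv3
    | 4, _ => exact okE7Equiv4
    | 5, _ => exact okE7Equiv5
    | 6, _ => exact okE7Equiv6
    | n + 7, h => omega

end CfsgLib.Lie.Chev
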