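/-
Kernel evaluation of the table checks.
-/
import Cfsg.Agent.Lib.Lie.Chev.Checks
import Cfsg.Agent.Lib.Lie.Chev.Data.E8

set_option autoImplicit false

namespace CfsgLib.Lie.Chev

/-- the part of `chkN` belonging to one simple reflection -/
def chkE8NAt (i : ℕ) : Bool :=
  ((List.range Cfsg.Lie.chevE8.rank).all fun j =>
    eqV (nCol Cfsg.Lie.chevE8 i j) [(0, 0, j, 1), (0, 0, i, - Cfsg.Lie.chevE8.cartan j (Cfsg.Lie.chevE8.simple i))]) &&
  ((List.range Cfsg.Lie.chevE8.nroots).all fun s =>
    eqV (nCol Cfsg.Lie.chevE8 i (Cfsg.Lie.chevE8.rank + s))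
      [(0, 0, Cfsg.Lie.chevE8.rank + auxE8.w i s, auxE8.eta i s)])

theorem okE8N0 : chkE8NAt 0 = true := by decide +kernel
theorem okE8N1 : chkE8NAt 1 = true := by decide +kernel
theorem okE8N2 : chkE8NAt 2 = true := by decide +kernel
theorem okE8N3 : chkE8NAt 3 = true := by decide +kernel
theorem okE8N4 : chkE8NAt 4 = true := by decide +kernel
theorem okE8N5 : chkE8NAt 5 = true := by decide +kernel
theorem okE8N6 : chkE8NAt 6 = true := by decide +kernel
theorem okE8N7 : chkE8NAt 7 = true := by decide +kernel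
theorem okE8N : chkN Cfsg.Lie.chevE8 auxE8 = true := by
  unfold chkN
  simp only [List.all_eq_true]
  intro i hi
  have h : i < 8 := List.mem_range.1 hi
  match i, h with
  | 0, _ => exact okE8N0
  | 1, _ => exact okE8N1
  | 2, _ => exact okE8N2
  | 3, _ => exact okE8N3
  | 4, _ => exact okE8N4
  | 5, _ => exact okE8N5
  | 6, _ => exact okE8N6
  | 7, _ => exact okE8N7
  | k + 8, h => omega
theorem okE8Add : chkAdd Cfsg.Lie.chevE8 auxE8 = true := by decide +kernel
theorem okE8Comm : chkComm Cfsg.Lie.chevE8 auxE8 = true := by decide +kernel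
theorem okE8Cover : chkCover Cfsg.Lie.chevE8 auxE8 = true := by decide +kernel
theorem okE8Comm2 : chkComm2 Cfsg.Lie.chevE8 auxE8 = true := by decide +kernel

end CfsgLib.Lie.Chev
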