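/-
Kernel evaluation of the table checks.
-/
import Cfsg.Agent.Lib.Lie.Chev.Checks
import Cfsg.Agent.Lib.Lie.Chev.Data.E8

set_option autoImplicit false

namespace CfsgLib.Lie.Chev

theorem okE8Equiv0 : chkEquivAt Cfsg.Lie.chevE8 auxE8 0 = true := by decide +kernel
theorem okE8Equiv1 : chkEquivAt Cfsg.Lie.chevE8 auxE8 1 = true := by decide +kernel
theorem okE8Equiv2 : chkEquivAt Cfsg.Lie.chevE8 auxE8 2 = true := by decide +kernel
theorem okE8Equiv3 : chkEquivAt Cfsg.Lie.chevE8 auxE8 3 = true := by decide +kernel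
theorem okE8Equiv4 : chkEquivAt Cfsg.Lie.chevE8 auxE8 4 = true := by decide +kernel
theorem okE8Equiv5 : chkEquivAt Cfsg.Lie.chevE8 auxE8 5 = true := by decide +kernel
theorem okE8Equiv6 : chkEquivAt Cfsg.Lie.chevE8 auxE8 6 = true := by decide +kernel
theorem okE8Equiv7 : chkEquivAt Cfsg.Lie.chevE8 auxE8 7 = true := by decide +kernel

end CfsgLib.Lie.Chev
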