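/-
Kernel evaluation of the table checks.
-/
import Cfsg.Agent.Lib.Lie.Chev.Cert
import Cfsg.Agent.Lib.Lie.Chev.Data.E8A
import Cfsg.Agent.Lib.Lie.Chev.Data.E8B
import Cfsg.Agent.Lib.Lie.Chev.Data.E8C

set_option autoImplicit false

namespace CfsgLib.Lie.Chev

/-- the tables of type E8 are certified -/
theorem certE8 : Cert Cfsg.Lie.chevE8 auxE8 where
  shape := okE8Shape
  refl := okE8W
  coords := okE8Coef
  lin := okE8Lin
  rows := okE8Rows
  nmat := okE8N
  addRep := okE8Add
  commBase := okE8Comm
  cover := okE8Cover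
  comm2 := okE8Comm2
  equivRows := fun i hi => by
    have h : i < 8 := hi
    match i, h with
    | 0, _ => exact okE8Equiv0
    | 1, _ => exact okE8Equiv1
    | 2, _ => exact okE8Equiv2
    | 3, _ => exact okE8Equiv3
    | 4, _ => exact okE8Equiv4
    | 5, _ => exact okE8Equiv5
    | 6, _ => exact okE8Equiv6
    | 7, _ => exact okE8Equiv7
    | n + 8, h => omega

end CfsgLib.Lie.Chev
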