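/-
Cached tables for the Chevalley datum of type F4 (checked against the datum in Chev/CheckF4).
-/
import Cfsg.Agent.Lib.Lie.Chev.Basic
import Cfsg.Prelude.Def_ChevF4

set_option autoImplicit false

namespace CfsgLib.Lie.Chev

/-- cached tables for F4 -/
def auxF4 : Aux where
  wtab := [2226850588181147027168869789647809976437710073120272696239676770532734517580259695980325283290177304228576790870104285851738446944638202575560678207891599425166013564544486948231125989336019423580000730205083712155334208632520704, 2226850588159085091445962971821905090278987868977263898829859014662378949211254856415632427892865439169521960915140539018322469177729044478398575660546465470940248414722467849597024519415481651675727109379374017298453088759316480, 2226850226718392206204139836212491239417383696776871600891283756753662302567351418262265192636396458249729788846295983977411337910930747129829644383191638301975441836551144246766409034377650845441917495614943124451543345919229952, 2203161765042589622674091574126827949352473926295084978119838250440303736373683645561730695761741188845559168133347994692797136167776165996531293492886103456504710205976177668619407941036956199106341328757094161413076684797640707]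
  ctab := [20087297276593263909997892281658497307990579504064116782221771030064378889324539648932291698651678580459187956776574, 20396332610064135997363594013002158654355060983960520092899331470382912805203209969916755651015454129670680278236284, 20241812590198979417012460415846288955870868526450303784048172457176529574993908654570482562239034450308494698380669, 20086693691939519577351445139747098956408955182066517704867523488693272854035907668426756697039690851602758675431294]
  htab := [19932779614408848653701447508868876447191263806501121423876636953716920079558291706192403415421788342849217197211519, 20087297285731281931504616643307976942397370835524235405104478706679056529223212843355599591499100145897508798627454, 20241812608546968349221726699682444171081091637305255631643234796319046142558540902206114317072772827057284590763389, 20086693701113514043456094514543303263208847149150197734078980771570247302166884561491610369043109527499139597696894]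
  reps := [44, 47]
  bases := [(44, 6), (44, 14), (44, 29), (44, 32), (44, 40), (44, 47), (47, 18), (47, 23), (47, 37), (47, 41), (47, 44), (47, 46)]

end CfsgLib.Lie.Chev
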