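/-
Kernel evaluation of the table checks.
-/
import Cfsg.Agent.Lib.Lie.Chev.Cert
import Cfsg.Agent.Lib.Lie.Chev.Data.F4

set_option autoImplicit false

namespace CfsgLib.Lie.Chev

theorem okF4Shape : chkShape Cfsg.Lie.chevF4 = true := by decide +kernel
theorem okF4W : chkW Cfsg.Lie.chevF4 auxF4 = true := by decide +kernel
theorem okF4Coef : chkCoef Cfsg.Lie.chevF4 auxF4 = true := by decide +kernel
theorem okF4Lin : chkLin Cfsg.Lie.chevF4 auxF4 = true := by decide +kernel
theorem okF4Rows : chkRows Cfsg.Lie.chevF4 auxF4 = true := by decide +kernel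
theorem okF4N : chkN Cfsg.Lie.chevF4 auxF4 = true := by decide +kernel
theorem okF4Add : chkAdd Cfsg.Lie.chevF4 auxF4 = true := by decide +kernel
theorem okF4Comm : chkComm Cfsg.Lie.chevF4 auxF4 = true := by decide +kernel
theorem okF4Cover : chkCover Cfsg.Lie.chevF4 auxF4 = true := by decide +kernel
theorem okF4Comm2 : chkComm2 Cfsg.Lie.chevF4 auxF4 = true := by decide +kernel
theorem okF4Equiv0 : chkEquivAt Cfsg.Lie.chevF4 auxF4 0 = true := by decide +kernel
theorem okF4Equiv1 : chkEquivAt Cfsg.Lie.chevF4 auxF4 1 = true := by decide +kernel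
theorem okF4Equiv2 : chkEquivAt Cfsg.Lie.chevF4 auxF4 2 = true := by decide +kernel
theorem okF4Equiv3 : chkEquivAt Cfsg.Lie.chevF4 auxF4 3 = true := by decide +kernel

/-- the tables of type F4 are certified -/
theorem certF4 : Cert Cfsg.Lie.chevF4 auxF4 where
  shape := okF4Shape
  refl := okF4W
  coords := okF4Coef
  lin := okF4Lin
  rows := okF4Rows
  nmat := okF4N
  addRep := okF4Add
  commBase := okF4Comm
  cover := okF4Cover
  comm2 := okF4Comm2
  equivRows := fun i hi => by
    have h : i < 4 := hi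
    match i, h with
    | 0, _ => exact okF4Equiv0
    | 1, _ => exact okF4Equiv1
    | 2, _ => exact okF4Equiv2
    | 3, _ => exact okF4Equiv3
    | n + 4, h => omega

end CfsgLib.Lie.Chev
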