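/-
Cached tables for the Chevalley datum of type G2 (checked against the datum in Chev/CheckG2).
-/
import Cfsg.Agent.Lib.Lie.Chev.Basic
import Cfsg.Prelude.Def_ChevG2

set_option autoImplicit false

namespace CfsgLib.Lie.Chev

/-- cached tables for G2 -/
def auxG2 : Aux where
  wtab := [2107200368591001275485021236825431852818020369361993728, 2011432550823918924351663606087756486554998895762472963]
  ctab := [40701521865570078700242632061, 40389614281671244289245413246]
  htab := [40080133994288159304443658111, 40389623763297698175921258366]
  reps := [9, 11]
  bases := [(9, 1), (9, 4), (9, 6), (9, 8), (9, 11), (11, 3), (11, 5), (11, 7), (11, 9), (11, 10)]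

end CfsgLib.Lie.Chev
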