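/-
Kernel evaluation of the table checks.
-/
import Cfsg.Agent.Lib.Lie.Chev.Cert
import Cfsg.Agent.Lib.Lie.Chev.Data.G2

set_option autoImplicit false

namespace CfsgLib.Lie.Chev

theorem okG2Shape : chkShape Cfsg.Lie.chevG2 = true := by decide +kernel
theorem okG2W : chkW Cfsg.Lie.chevG2 auxG2 = true := by decide +kernel
theorem okG2Coef : chkCoef Cfsg.Lie.chevG2 auxG2 = true := by decide +kernel
theorem okG2Lin : chkLin Cfsg.Lie.chevG2 auxG2 = true := by decide +kernel
theorem okG2Rows : chkRows Cfsg.Lie.chevG2 auxG2 = true := by decide +kernel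
theorem okG2N : chkN Cfsg.Lie.chevG2 auxG2 = true := by decide +kernel
theorem okG2Add : chkAdd Cfsg.Lie.chevG2 auxG2 = true := by decide +kernel
theorem okG2Comm : chkComm Cfsg.Lie.chevG2 auxG2 = true := by decide +kernel
theorem okG2Cover : chkCover Cfsg.Lie.chevG2 auxG2 = true := by decide +kernel
theorem okG2Comm2 : chkComm2 Cfsg.Lie.chevG2 auxG2 = true := by decide +kernel
theorem okG2Equiv0 : chkEquivAt Cfsg.Lie.chevG2 auxG2 0 = true := by decide +kernel
theorem okG2Equiv1 : chkEquivAt Cfsg.Lie.chevG2 auxG2 1 = true := by decide +kernel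

/-- the tables of type G2 are certified -/
theorem certG2 : Cert Cfsg.Lie.chevG2 auxG2 where
  shape := okG2Shape
  refl := okG2W
  coords := okG2Coef
  lin := okG2Lin
  rows := okG2Rows
  nmat := okG2N
  addRep := okG2Add
  commBase := okG2Comm
  cover := okG2Cover
  comm2 := okG2Comm2
  equivRows := fun i hi => by
    have h : i < 2 := hi
    match i, h with
    | 0, _ => exact okG2Equiv0
    | 1, _ => exact okG2Equiv1
    | n + 2, h => omega

end CfsgLib.Lie.Chev
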